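import Cfsg.Agent.Lib.GLClasses.Code

/-!
Every invertible matrix has a code determining its class, its determinant and determinants in its centraliser.
-/

set_option autoImplicit false

namespace Cfsg.Agent.Lib.GLClasses

open Polynomial Cfsg.Agent.Lib.Similarity Cfsg.Agent.S2478

variable {F : Type*} [Field F] [Fintype F]

open Classical in
/-- The kernel dimensions predicted by a code. -/
noncomputable def kd {n : ℕ} (g : Fin n → F[X]) (r : F[X]) (k : ℕ) : ℕ :=
  r.natDegree * ∑ j : Fin n, min k ((j : ℕ) + 1) * (UniqueFactorizationMonoid.normalizedFactors (g j)).count r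

theorem exists_code {n : ℕ} (A : GL (Fin n) F) : ∃ g : Fin n → F[X],
    g ∈ codes F n n ∧
    (∀ r : F[X], Irreducible r → r.Monic → ∀ k : ℕ,
      Module.finrank F (LinearMap.ker (aeval (Matrix.toLinAlgEquiv' (A : Matrix (Fin n) (Fin n) F)) (r ^ k))) = kd g r k) ∧
    dtm 1 g = (A : Matrix (Fin n) (Fin n) F).det ∧
    ∀ j : Fin n, (g j).natDegree ≠ 0 → ∀ c : Fˣ,
      ∃ x : GL (Fin n) F, Commute x A ∧ Matrix.GeneralLinearGroup.det x = c ^ ((j : ℕ) + 1) := by
  classical
  set f : Module.End F (Fin n → F) := Matrix.toLinAlgEquiv' (A : Matrix (Fin n) (Fin n) F) with hf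
  obtain ⟨ι, _, p, hp, e, ⟨E⟩⟩ := Module.equiv_directSum_of_isTorsion (isTorsion_aeval f)
  let q : ι → F[X] := fun i => normalize (p i)
  have hq : ∀ i, Irreducible (q i) ∧ (q i).Monic := fun i =>
    ⟨(normalize_associated (p i)).symm.irreducible (hp i), Polynomial.monic_normalize (hp i).ne_zero⟩
  have hspan : ∀ (a : F[X]) (m : ℕ),
      (Submodule.span F[X] {a ^ m} : Submodule F[X] F[X]) = Ideal.span {normalize a ^ m} := fun a m =>
    (Ideal.span_singleton_eq_span_singleton.2 ((normalize_associated a).symm.pow_pow))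
  let M := fun i : ι => F[X] ⧸ Ideal.span {q i ^ e i}
  let E1 : Module.AEval' f ≃ₗ[F[X]] (∀ i, M i) :=
    E ≪≫ₗ DirectSum.linearEquivFunOnFintype F[X] ι _ ≪≫ₗ
      LinearEquiv.piCongrRight (fun i => Submodule.quotEquivOfEq _ _ (hspan (p i) (e i)))
  have : ∀ i, FiniteDimensional F (M i) := fun i => finite_quot ((hq i).2.pow _)
  have hker : ∀ r : F[X], Irreducible r → r.Monic → ∀ k : ℕ,
      Module.finrank F (LinearMap.ker (aeval f (r ^ k))) =
        ∑ i, if q i = r then (q i).natDegree * min k (e i) else 0 := by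
    intro r hr hrm k
    rw [← kerDim_aeval, kerDim_congr E1, kerDim_pi]
    exact Finset.sum_congr rfl (fun i _ => kerDim_quot (hq i).1 (hq i).2 hr hrm (e i) k)
  have htot : ∑ i, (q i).natDegree * e i = n := by
    have h1 := LinearEquiv.finrank_eq (R := F) ((Module.AEval'.of f).trans (E1.restrictScalars F))
    rw [Module.finrank_fin_fun, Module.finrank_pi_fintype] at h1
    conv_rhs => rw [h1]
    refine Finset.sum_congr rfl fun i _ => ?_
    rw [finrank_quot ((hq i).2.pow _), natDegree_pow, mul_comm]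
  have hle : ∀ i, e i ≤ n := fun i => by
    have h1 := Finset.single_le_sum (f := fun i => (q i).natDegree * e i) (fun _ _ => Nat.zero_le _) (Finset.mem_univ i)
    rw [htot] at h1
    exact (Nat.le_mul_of_pos_left _ (hq i).1.natDegree_pos).trans h1
  have hX : ∀ i, e i ≠ 0 → (q i).coeff 0 ≠ 0 := by
    intro i hi h0
    have hqX : q i = X := (eq_of_monic_of_associated monic_X (hq i).2
      (irreducible_X.associated_of_dvd (hq i).1 (X_dvd_iff.2 h0))).symm
    have h1 := hker X irreducible_X monic_X 1
    have hinj : LinearMap.ker (aeval f ((X : F[X]) ^ 1)) = ⊥ := by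
      rw [pow_one, aeval_X, LinearMap.ker_eq_bot, hf]
      exact Matrix.mulVec_injective_iff_isUnit.2 A.isUnit
    rw [hinj, finrank_bot] at h1
    have h2 := Finset.sum_eq_zero_iff.1 h1.symm i (Finset.mem_univ i)
    rw [if_pos hqX, hqX, natDegree_X, one_mul] at h2
    omega
  let φ : (Fin n → F) ≃ₗ[F] ∀ i, M i := (Module.AEval'.of f).trans (E1.restrictScalars F)
  have hφ : ∀ v i, φ (f v) i = (X : F[X]) • φ v i := by
    intro v i
    show E1 (Module.AEval'.of f (f v)) i = _
    rw [← Module.AEval'.X_smul_of, map_smul]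
    rfl
  let S : Fin n → Multiset F[X] := fun j => (Finset.univ.filter fun i => e i = (j : ℕ) + 1).val.map q
  let g : Fin n → F[X] := fun j => (S j).prod
  have hgm : ∀ j, (g j).Monic := fun j => monic_multiset_prod_of_monic _ _ fun i _ => (hq i).2
  have hfac : ∀ j, UniqueFactorizationMonoid.normalizedFactors (g j) = S j := fun j => by
    rw [UniqueFactorizationMonoid.normalizedFactors_prod_eq]
    · refine (Multiset.map_congr rfl fun x hx => ?_).trans (Multiset.map_id _)
      obtain ⟨i, -, rfl⟩ := Multiset.mem_map.1 hx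
      exact (hq i).2.normalize_eq_self
    · intro x hx
      obtain ⟨i, -, rfl⟩ := Multiset.mem_map.1 hx
      exact (hq i).1
  have hdeg : ∀ j : Fin n, (g j).natDegree = ∑ i ∈ Finset.univ.filter (fun i => e i = (j : ℕ) + 1), (q i).natDegree := by
    intro j
    rw [natDegree_multiset_prod _ (fun h0 => by
      obtain ⟨i, -, hi⟩ := Multiset.mem_map.1 h0
      exact (hq i).1.ne_zero hi), Multiset.map_map]
    rfl
  have hcoe : ∀ j : Fin n, (g j).coeff 0 = ∏ i ∈ Finset.univ.filter (fun i => e i = (j : ℕ) + 1), (q i).coeff 0 := by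
    intro j
    rw [coeff_zero_multiset_prod, Multiset.map_map]
    rfl
  have sumE : ∀ u : ι → ℕ → ℕ, (∀ i, u i 0 = 0) →
      ∑ j : Fin n, ∑ i ∈ Finset.univ.filter (fun i => e i = (j : ℕ) + 1), u i ((j : ℕ) + 1) = ∑ i, u i (e i) := by
    intro u hu
    simp only [Finset.sum_filter]
    rw [Finset.sum_comm]
    refine Finset.sum_congr rfl fun i _ => ?_
    rcases Nat.eq_zero_or_pos (e i) with h0 | h0
    · rw [h0, hu]; exact Finset.sum_eq_zero fun j _ => if_neg (by omega)
    · rw [Finset.sum_eq_single (⟨e i - 1, by have := hle i; omega⟩ : Fin n)]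
      · rw [if_pos (by show e i = e i - 1 + 1; omega), show e i - 1 + 1 = e i by omega]
      · intro j _ hj; exact if_neg fun h => hj (Fin.ext (by show (j : ℕ) = e i - 1; omega))
      · simp
  refine ⟨g, mem_codes.2 ⟨fun j => ⟨hgm j, ?_⟩, ?_⟩, fun r hr hrm k => ?_, ?_, fun j hj c => ?_⟩
  · rw [hcoe]
    exact Finset.prod_ne_zero_iff.2 fun i hi => hX i (by rw [(Finset.mem_filter.1 hi).2]; omega)
  · conv_rhs => rw [← htot, ← sumE (fun i d => (q i).natDegree * d) (fun i => mul_zero _)]
    unfold wt
    refine Finset.sum_congr rfl fun j _ => ?_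
    rw [hdeg, mul_comm, Finset.sum_mul]
  · rw [hker r hr hrm k, ← sumE (fun i d => if q i = r then (q i).natDegree * min k d else 0) (fun i => by simp), kd,
      Finset.mul_sum]
    refine Finset.sum_congr rfl fun j _ => ?_
    rw [hfac, Multiset.count_map, ← Finset.sum_filter, ← Finset.filter_val, Finset.card_val]
    rw [Finset.sum_congr rfl (fun i hi => by rw [(Finset.mem_filter.1 hi).2] :
      ∀ i ∈ (Finset.univ.filter fun i => e i = (j : ℕ) + 1).filter (fun i => q i = r),
        (q i).natDegree * min k ((j : ℕ) + 1) = r.natDegree * min k ((j : ℕ) + 1)), Finset.sum_const, smul_eq_mul]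
    rw [Finset.filter_congr (fun i _ => eq_comm (a := q i) (b := r))]
    ring
  · have h1 : φ.toLinearMap ∘ₗ f ∘ₗ φ.symm.toLinearMap = LinearMap.pi fun i => (mulQuot (q i ^ e i) X).comp (LinearMap.proj i) := by
      refine LinearMap.ext fun x => funext fun i => ?_
      show φ (f (φ.symm x)) i = (X : F[X]) • x i
      rw [hφ, φ.apply_symm_apply]
    have h2 := (LinearMap.det_conj f φ).symm.trans (congrArg LinearMap.det h1)
    rw [det_piMap, hf] at h2
    change LinearMap.det (Matrix.toLin' (A : Matrix (Fin n) (Fin n) F)) = _ at h2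
    rw [LinearMap.det_toLin'] at h2
    rw [h2, dtm]
    simp only [one_mul, hdeg, hcoe, ← Finset.prod_pow_eq_pow_sum, ← Finset.prod_mul_distrib, ← Finset.prod_pow]
    simp only [Finset.prod_filter]
    rw [Finset.prod_comm]
    refine Finset.prod_congr rfl fun i _ => ?_
    rw [det_mulQuot_pow (hq i).2, det_mulQuot_X (hq i).2]
    rcases Nat.eq_zero_or_pos (e i) with h0 | h0
    · rw [h0, pow_zero]; exact Finset.prod_eq_one fun j _ => if_neg (by omega)
    · rw [Finset.prod_eq_single (⟨e i - 1, by have := hle i; omega⟩ : Fin n)]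
      · rw [if_pos (by show e i = e i - 1 + 1; omega)]
        show _ = _ ^ e i
        congr 1
        show e i - 1 + 1 = e i
        omega
      · intro j _ hj; exact if_neg fun h => hj (Fin.ext (by show (j : ℕ) = e i - 1; omega))
      · simp
  · rw [hdeg] at hj
    obtain ⟨i0, hi0, -⟩ := Finset.exists_ne_zero_of_sum_ne_zero hj
    obtain ⟨g0, -, hg0⟩ := exists_det_mulQuot (hq i0).1 (hq i0).2 (e i0) (Units.ne_zero c)
    let G : ι → F[X] := Function.update (fun _ => 1) i0 g0
    let L : (∀ i, M i) →ₗ[F] (∀ i, M i) := LinearMap.pi fun i => (mulQuot (q i ^ e i) (G i)).comp (LinearMap.proj i)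
    let B : Module.End F (Fin n → F) := φ.symm.toLinearMap ∘ₗ L ∘ₗ φ.toLinearMap
    have hL : LinearMap.det B = (c : F) ^ ((j : ℕ) + 1) := by
      have hB : φ.toLinearMap ∘ₗ B ∘ₗ φ.symm.toLinearMap = L := by
        refine LinearMap.ext fun x => ?_
        simp [B]
      rw [← LinearMap.det_conj B φ, hB, det_piMap, Finset.prod_eq_single i0]
      · simp only [G, Function.update_self]
        rw [hg0, (Finset.mem_filter.1 hi0).2]
      · intro i _ hi
        simp only [G, Function.update_of_ne hi]
        rw [show mulQuot (q i ^ e i) 1 = LinearMap.id from LinearMap.ext fun x => one_smul F[X] x, LinearMap.det_id]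
      · simp
    have hdetM : (LinearMap.toMatrix' B).det = (c : F) ^ ((j : ℕ) + 1) := by
      rw [← LinearMap.det_toLin', Matrix.toLin'_toMatrix', hL]
    refine ⟨Matrix.GeneralLinearGroup.mkOfDetNeZero (LinearMap.toMatrix' B) (by rw [hdetM]; exact pow_ne_zero _ c.ne_zero), ?_, ?_⟩
    · apply Units.ext
      show LinearMap.toMatrix' B * (A : Matrix (Fin n) (Fin n) F) = A * LinearMap.toMatrix' B
      apply Matrix.toLinAlgEquiv'.injective
      rw [map_mul, map_mul, show Matrix.toLinAlgEquiv' (LinearMap.toMatrix' B) = B from Matrix.toLin'_toMatrix' B, ← hf]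
      refine LinearMap.ext fun v => φ.injective ?_
      funext i
      show φ (φ.symm (L (φ (f v)))) i = φ (f (φ.symm (L (φ v)))) i
      rw [φ.apply_symm_apply, hφ, φ.apply_symm_apply]
      show G i • φ (f v) i = X • G i • φ v i
      rw [hφ, smul_smul, smul_smul, mul_comm]
    · apply Units.ext
      rw [Units.val_pow_eq_pow_val]
      exact hdetM

end Cfsg.Agent.Lib.GLClasses
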