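import Cfsg.Agent.Lib.GLClasses.Exists

/-!
Counting the classes of `SL n F` which are fixed by multiplication with a scalar.
-/

set_option autoImplicit false

namespace Cfsg.Agent.Lib.GLClasses

open Polynomial Cfsg.Agent.S2478

variable {F : Type*} [Field F] [Fintype F] {n : ℕ}

/-- A code of an element. -/
noncomputable def codeOf (A : GL (Fin n) F) : Fin n → F[X] := (exists_code A).choose

theorem codeOf_spec (A : GL (Fin n) F) :
    codeOf A ∈ codes F n n ∧
    (∀ r : F[X], Irreducible r → r.Monic → ∀ k : ℕ,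
      Module.finrank F (LinearMap.ker (aeval (Matrix.toLinAlgEquiv' (A : Matrix (Fin n) (Fin n) F)) (r ^ k))) = kd (codeOf A) r k) ∧
    dtm 1 (codeOf A) = (A : Matrix (Fin n) (Fin n) F).det ∧
    ∀ j : Fin n, (codeOf A j).natDegree ≠ 0 → ∀ c : Fˣ,
      ∃ x : GL (Fin n) F, Commute x A ∧ Matrix.GeneralLinearGroup.det x = c ^ ((j : ℕ) + 1) :=
  (exists_code A).choose_spec

theorem isConj_of_codeOf_eq {A B : GL (Fin n) F} (h : codeOf A = codeOf B) : IsConj A B :=
  isConj_of_tuple A B fun r hr hm k => by rw [(codeOf_spec A).2.1 r hr hm k, (codeOf_spec B).2.1 r hr hm k, h]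

omit [Fintype F] in
open Classical in
/-- The kernel dimensions determine the multiplicities. -/
theorem kd_count {g g' : Fin n → F[X]} {r r' : F[X]} (hr : Irreducible r) (hd : r'.natDegree = r.natDegree)
    (h : ∀ k, kd g r k = kd g' r' k) (i : Fin n) :
    (UniqueFactorizationMonoid.normalizedFactors (g i)).count r =
      (UniqueFactorizationMonoid.normalizedFactors (g' i)).count r' := by
  classical
  let D : (Fin n → ℕ) → ℕ → ℕ := fun c k => ∑ j : Fin n, min k ((j : ℕ) + 1) * c j
  have key : ∀ c : Fin n → ℕ, 2 * D c ((i : ℕ) + 1) = D c (i : ℕ) + D c ((i : ℕ) + 2) + c i := by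
    intro c
    have h1 : c i = ∑ j : Fin n, if j = i then c j else 0 := by simp
    rw [h1]
    simp only [D, Finset.mul_sum, ← Finset.sum_add_distrib]
    refine Finset.sum_congr rfl fun j _ => ?_
    rw [← mul_assoc]
    split_ifs with hji
    · subst hji
      rw [show min ((j : ℕ) + 1) ((j : ℕ) + 1) = (j : ℕ) + 1 from min_self _, min_eq_left (Nat.le_succ _), min_eq_right (by omega)]
      ring
    · have hne : (j : ℕ) ≠ (i : ℕ) := fun h => hji (Fin.ext h)
      rw [← add_mul, add_zero]
      congr 1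
      omega
  have e : ∀ k, D (fun j => (UniqueFactorizationMonoid.normalizedFactors (g j)).count r) k =
      D (fun j => (UniqueFactorizationMonoid.normalizedFactors (g' j)).count r') k := fun k => by
    have := h k
    simp only [kd, hd] at this
    exact Nat.eq_of_mul_eq_mul_left hr.natDegree_pos this
  have h1 := key fun j => (UniqueFactorizationMonoid.normalizedFactors (g j)).count r
  have h2 := key fun j => (UniqueFactorizationMonoid.normalizedFactors (g' j)).count r'
  rw [e, e, e] at h1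
  omega

omit [Fintype F] in
/-- Kernel dimensions of similar maps with a scalar. -/
theorem finrank_ker_scaleRoots (f : Module.End F (Fin n → F)) (e : (Fin n → F) ≃ₗ[F] (Fin n → F)) {z : F} (hz : z ≠ 0)
    (he : LinearEquiv.conjAlgEquiv F e f = z • f) (r : F[X]) (k : ℕ) :
    Module.finrank F (LinearMap.ker (aeval f (r ^ k))) =
      Module.finrank F (LinearMap.ker (aeval f (r.scaleRoots z ^ k))) := by
  have hpoly : (r.scaleRoots z).comp (C z * X) = C (z ^ r.natDegree) * r := by
    rw [comp, scaleRoots_eval₂_mul, eval₂_C_X, map_pow]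
  have h1 : aeval (z • f) (r.scaleRoots z ^ k) = (z ^ r.natDegree) ^ k • aeval f (r ^ k) := by
    have : z • f = aeval f (C z * X) := by simp [Algebra.smul_def]
    rw [this, ← aeval_comp, pow_comp, hpoly, mul_pow, map_mul, ← map_pow C, aeval_C, ← Algebra.smul_def]
  have h2 : aeval (z • f) (r.scaleRoots z ^ k) = LinearEquiv.conjAlgEquiv F e (aeval f (r.scaleRoots z ^ k)) := by
    rw [← he]; exact aeval_algHom_apply _ _ _
  have h3 : LinearMap.ker (LinearEquiv.conjAlgEquiv F e (aeval f (r.scaleRoots z ^ k))) =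
      (LinearMap.ker (aeval f (r.scaleRoots z ^ k))).map e.toLinearMap := by
    ext x
    simp [LinearEquiv.conjAlgEquiv_apply, Submodule.mem_map_equiv]
  rw [← LinearMap.ker_smul (aeval f (r ^ k)) _ (pow_ne_zero k (pow_ne_zero r.natDegree hz)), ← h1, h2, h3,
    LinearEquiv.finrank_map_eq]

/-- If `z • A` is similar to `A`, the code consists of polynomials in `X ^ orderOf z`. -/
theorem scaleRoots_codeOf (A c : GL (Fin n) F) {z : F} (hz : z ≠ 0)
    (hc : (c : Matrix (Fin n) (Fin n) F) * A * (c⁻¹ : GL (Fin n) F) = z • (A : Matrix (Fin n) (Fin n) F)) (i : Fin n) :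
    (codeOf A i).scaleRoots z = codeOf A i := by
  classical
  obtain ⟨hmem, hker, -, -⟩ := codeOf_spec A
  let T : Matrix (Fin n) (Fin n) F ≃ₐ[F] Module.End F (Fin n → F) := Matrix.toLinAlgEquiv'
  let e : (Fin n → F) ≃ₗ[F] (Fin n → F) := LinearEquiv.ofLinear (T c) (T ((c⁻¹ : GL (Fin n) F) : Matrix (Fin n) (Fin n) F))
    (by rw [← Module.End.mul_eq_comp, ← map_mul, ← Units.val_mul, mul_inv_cancel]; exact map_one T)
    (by rw [← Module.End.mul_eq_comp, ← map_mul, ← Units.val_mul, inv_mul_cancel]; exact map_one T)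
  have he : LinearEquiv.conjAlgEquiv F e (T (A : Matrix (Fin n) (Fin n) F)) = z • T (A : Matrix (Fin n) (Fin n) F) := by
    rw [← map_smul, ← hc, map_mul, map_mul]
    rfl
  let σ : F[X] ≃* F[X] :=
    { toFun := fun p => p.scaleRoots z
      invFun := fun p => p.scaleRoots z⁻¹
      left_inv := fun p => by simp only [← scaleRoots_mul, mul_inv_cancel₀ hz, scaleRoots_one]
      right_inv := fun p => by simp only [← scaleRoots_mul, inv_mul_cancel₀ hz, scaleRoots_one]
      map_mul' := fun p q => mul_scaleRoots_of_noZeroDivisors p q z }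
  have hσ : ∀ r, σ r = r.scaleRoots z := fun r => rfl
  set g := codeOf A
  set S := UniqueFactorizationMonoid.normalizedFactors (g i) with hS
  have hSm : ∀ r ∈ S, Irreducible r ∧ r.Monic := fun r hr =>
    ⟨UniqueFactorizationMonoid.irreducible_of_normalized_factor r hr, by
      rw [← UniqueFactorizationMonoid.normalize_normalized_factor r hr]
      exact monic_normalize (UniqueFactorizationMonoid.irreducible_of_normalized_factor r hr).ne_zero⟩
  have hcount : ∀ r : F[X], Irreducible r → r.Monic → S.count (σ r) = S.count r := by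
    intro r hr hm
    refine (kd_count (g := g) (g' := g) hr (natDegree_scaleRoots r z) (fun k => ?_) i).symm
    rw [← hker r hr hm k, ← hker (r.scaleRoots z) (hσ r ▸ (MulEquiv.irreducible_iff σ).2 hr) ((monic_scaleRoots_iff z).2 hm) k]
    exact finrank_ker_scaleRoots _ e hz he r k
  have hmap : S.map σ = S := by
    refine Multiset.ext.2 fun x => ?_
    obtain ⟨r, rfl⟩ := σ.surjective x
    rw [Multiset.count_map_eq_count' _ _ σ.injective]
    by_cases hr : Irreducible r ∧ r.Monic
    · exact (hcount r hr.1 hr.2).symm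
    · rw [Multiset.count_eq_zero_of_notMem (fun h => hr (hSm r h)), Multiset.count_eq_zero_of_notMem fun h => hr ?_]
      exact ⟨(MulEquiv.irreducible_iff σ).1 (hSm _ h).1, (monic_scaleRoots_iff z).1 (hSm _ h).2⟩
  have hprod : S.prod = g i := by
    rw [hS, UniqueFactorizationMonoid.prod_normalizedFactors_eq ((mem_codes.1 hmem).1 i).1.ne_zero]
    exact ((mem_codes.1 hmem).1 i).1.normalize_eq_self
  calc (g i).scaleRoots z = σ S.prod := by rw [hprod, hσ]
    _ = g i := by rw [map_multiset_prod, hmap, hprod]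

omit [Fintype F] in
/-- Polynomials fixed by scaling. -/
theorem eq_expand_of_scaleRoots {p : F[X]} {z : F} (hp : p.coeff 0 ≠ 0)
    (h : p.scaleRoots z = p) :
    p = expand F (orderOf z) (contract (orderOf z) p) ∨ orderOf z = 0 := by
  by_cases ho : orderOf z = 0
  · exact Or.inr ho
  refine Or.inl ?_
  have hc : ∀ i, p.coeff i ≠ 0 → orderOf z ∣ p.natDegree - i := by
    intro i hi
    have := coeff_scaleRoots p z i
    rw [h] at this
    exact orderOf_dvd_of_pow_eq_one ((mul_eq_left₀ hi).1 this.symm)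
  have hd : orderOf z ∣ p.natDegree := by simpa using hc 0 hp
  ext i
  rw [coeff_expand (Nat.pos_of_ne_zero ho)]
  split_ifs with hi
  · rw [coeff_contract ho, Nat.div_mul_cancel hi]
  · by_contra h0
    have := hc i h0
    exact hi ((Nat.dvd_sub_iff_right (le_natDegree_of_ne_zero h0) hd).1 this)

/-- The scaled code. -/
noncomputable def codeDiv (o : ℕ) (A : GL (Fin n) F) : Fin n → F[X] := fun j => contract o (codeOf A j)

theorem codeDiv_spec (A c : GL (Fin n) F) {z : F} {o m : ℕ} (ho : orderOf z = o) (hom : o * m = n) (hn : 0 < n)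
    (hc : (c : Matrix (Fin n) (Fin n) F) * A * (c⁻¹ : GL (Fin n) F) = z • (A : Matrix (Fin n) (Fin n) F)) :
    codeDiv o A ∈ codes F n m ∧ dtm o (codeDiv o A) = (A : Matrix (Fin n) (Fin n) F).det ∧
      delta (codeDiv o A) = delta (codeOf A) ∧ ∀ j, codeOf A j = expand F o (codeDiv o A j) := by
  classical
  have ho0 : 0 < o := Nat.pos_of_ne_zero fun h => by rw [h, zero_mul] at hom; omega
  have hz : z ≠ 0 := by
    rintro rfl
    rw [orderOf_eq_zero_iff'.2 fun k hk => by simp [hk.ne']] at ho
    omega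
  obtain ⟨hmem, -, hdet, -⟩ := codeOf_spec A
  obtain ⟨hcode, hw⟩ := mem_codes.1 hmem
  have hexp : ∀ j, codeOf A j = expand F o (codeDiv o A j) := by
    intro j
    subst ho
    exact (eq_expand_of_scaleRoots (hcode j).2 (scaleRoots_codeOf A c hz hc j)).resolve_right ho0.ne'
  have hdeg : ∀ j, (codeOf A j).natDegree = o * (codeDiv o A j).natDegree := by
    intro j; rw [hexp j, natDegree_expand, mul_comm]
  have h0 : ∀ j, (codeDiv o A j).coeff 0 = (codeOf A j).coeff 0 := by
    intro j
    rw [codeDiv, coeff_contract ho0.ne', zero_mul]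
  refine ⟨mem_codes.2 ⟨fun j => ⟨(monic_expand_iff ho0).1 (hexp j ▸ (hcode j).1), by rw [h0]; exact (hcode j).2⟩, ?_⟩,
    ?_, ?_, hexp⟩
  · refine Nat.eq_of_mul_eq_mul_left ho0 ?_
    rw [hom]
    conv_rhs => rw [← hw]
    unfold wt
    rw [Finset.mul_sum]
    exact Finset.sum_congr rfl fun j _ => by rw [hdeg]; ring
  · rw [← hdet, dtm, dtm]
    exact Finset.prod_congr rfl fun j _ => by rw [h0, one_mul, hdeg]
  · have : parts (codeDiv o A) = parts (codeOf A) := by
      unfold parts
      congr 1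
      exact Finset.filter_congr fun j _ => by rw [hdeg]; simp [ho0.ne']
    rw [delta, delta, this]

/-- `z • a` is similar to `a`. -/
def Fixed (z : F) (a : Matrix.SpecialLinearGroup (Fin n) F) : Prop :=
  ∃ c : GL (Fin n) F, (c : Matrix (Fin n) (Fin n) F) * (a : Matrix (Fin n) (Fin n) F) * (c⁻¹ : GL (Fin n) F) =
    z • (a : Matrix (Fin n) (Fin n) F)

open Matrix.SpecialLinearGroup in
/-- The fixed classes of `SL` are counted by codes. -/
theorem card_fixed_le_sum [DecidableEq F] {z : F} {o m : ℕ} (ho : orderOf z = o) (hom : o * m = n) (hn : 0 < n) :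
    Nat.card {C : ConjClasses (Matrix.SpecialLinearGroup (Fin n) F) // ∃ a, ConjClasses.mk a = C ∧ Fixed z a} ≤
      ∑ h ∈ (codes F n m).filter (fun h => dtm o h = 1), delta h := by
  classical
  choose a ha hfix using fun C : {C : ConjClasses (Matrix.SpecialLinearGroup (Fin n) F) // ∃ a, ConjClasses.mk a = C ∧ Fixed z a} => C.2
  choose c hc using hfix
  let A := fun C => toGL (a C)
  have spec := fun C => codeDiv_spec (A C) (c C) ho hom hn (hc C)
  rw [Nat.card_eq_fintype_card, ← Finset.card_univ,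
    Finset.card_eq_sum_card_fiberwise (f := fun C => codeDiv o (A C)) (t := (codes F n m).filter (fun h => dtm o h = 1))
      (fun C _ => Finset.mem_filter.2 ⟨(spec C).1, (spec C).2.1.trans (a C).2⟩)]
  refine Finset.sum_le_sum fun h _ => ?_
  rcases (Finset.univ.filter fun C => codeDiv o (A C) = h).eq_empty_or_nonempty with he | ⟨C0, hC0⟩
  · rw [he]; simp
  rw [Finset.mem_filter] at hC0
  let δ := delta h
  have hδ : δ = delta (codeOf (A C0)) := by rw [← (spec C0).2.2.1, hC0.2]
  have hconj : ∀ C, codeDiv o (A C) = h → ∃ x : GL (Fin n) F, x * A C0 * x⁻¹ = A C := by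
    intro C hC
    refine isConj_iff.1 (isConj_of_codeOf_eq (funext fun j => ?_))
    rw [(spec C0).2.2.2 j, (spec C).2.2.2 j, hC0.2, hC]
  choose x hx using hconj
  let Q := Fˣ ⧸ (powMonoidHom δ : Fˣ →* Fˣ).range
  have hQ : Nat.card Q = δ := by
    rw [← Subgroup.index_eq_card, IsCyclic.index_powMonoidHom_range, Nat.card_units, Nat.card_eq_fintype_card,
      Nat.gcd_eq_right (show δ ∣ _ from Nat.gcd_dvd_left _ _)]
  rw [← Fintype.card_coe, ← Nat.card_eq_fintype_card]
  refine le_of_le_of_eq (Nat.card_le_card_of_injective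
    (fun C => (QuotientGroup.mk (Matrix.GeneralLinearGroup.det (x C.1 (Finset.mem_filter.1 C.2).2)) : Q)) ?_) hQ
  rintro ⟨C, hC⟩ ⟨C', hC'⟩ heq
  simp only [QuotientGroup.eq] at heq
  have hh := (Finset.mem_filter.1 hC).2
  have hh' := (Finset.mem_filter.1 hC').2
  obtain ⟨w, hw⟩ := heq
  let H := (Subgroup.centralizer {A C0}).map Matrix.GeneralLinearGroup.det
  obtain ⟨y, hy, hyd⟩ := pow_gcd_mem H (Fintype.card F - 1) (parts (codeOf (A C0)))
    (fun w => by
      rw [← Fintype.card_units, pow_card_eq_one]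
      exact one_mem _)
    (fun j hj w => by
      obtain ⟨i, hi, rfl⟩ := Finset.mem_image.1 hj
      obtain ⟨y, hy, hyd⟩ := (codeOf_spec (A C0)).2.2.2 i (Finset.mem_filter.1 hi).2 w
      exact ⟨y, Subgroup.mem_centralizer_singleton_iff.2 hy.eq, hyd⟩) w
  have hy' : y * A C0 * y⁻¹ = A C0 := by
    rw [mul_inv_eq_iff_eq_mul]
    exact Subgroup.mem_centralizer_singleton_iff.1 hy
  set u := x C hh
  set u' := x C' hh'
  let g := u' * y⁻¹ * u⁻¹
  have hgd : Matrix.GeneralLinearGroup.det g = 1 := by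
    have hyd' : Matrix.GeneralLinearGroup.det y = (Matrix.GeneralLinearGroup.det u)⁻¹ * Matrix.GeneralLinearGroup.det u' := by
      rw [hyd, ← hw, hδ]
      rfl
    simp only [g, map_mul, map_inv, hyd']
    group
  let s : Matrix.SpecialLinearGroup (Fin n) F := ⟨(g : Matrix (Fin n) (Fin n) F), congrArg Units.val hgd⟩
  have hs : toGL s = g := Units.ext rfl
  apply Subtype.ext
  apply Subtype.ext
  show C.1 = C'.1
  rw [← ha C, ← ha C', ConjClasses.mk_eq_mk_iff_isConj, isConj_iff]
  refine ⟨s, toGL_injective ?_⟩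
  rw [map_mul, map_mul, map_inv, hs]
  show g * A C * g⁻¹ = A C'
  have hy2 : y⁻¹ * A C0 * y = A C0 := by
    conv_lhs => rw [← hy']
    group
  rw [← hx C hh, ← hx C' hh']
  calc u' * y⁻¹ * u⁻¹ * (u * A C0 * u⁻¹) * (u' * y⁻¹ * u⁻¹)⁻¹ = u' * (y⁻¹ * A C0 * y) * u'⁻¹ := by group
    _ = _ := by rw [hy2]

/-- The geometric sum. -/
def geo (q m : ℕ) : ℕ := ∑ i ∈ Finset.range m, q ^ i

theorem geo_mul (q m : ℕ) (hq : 1 ≤ q) : (q - 1) * geo q m = q ^ m - 1 := by
  obtain ⟨t, rfl⟩ := Nat.exists_eq_add_of_le' hq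
  have := geom_sum_mul_add t m
  rw [geo, Nat.add_sub_cancel, mul_comm]
  omega

/-- The divisors which can occur. -/
def divs (q m : ℕ) : Finset ℕ := (m.divisors.erase 1).filter (· ∣ q - 1)

/-- The bound. -/
def bd (q m : ℕ) : ℕ := geo q m + ∑ e ∈ divs q m, (e ^ 2 - 1) * geo q (m / e)

theorem num_le (q n m : ℕ) (hq : 1 ≤ q) (hm : 1 ≤ m) : num q n m ≤ q ^ m - 1 := by
  have h := num_bound q hq n m hm
  have h1 : 1 ≤ q ^ n := Nat.one_le_pow _ _ hq
  have h2 : 1 ≤ q ^ m := Nat.one_le_pow _ _ hq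
  by_contra h3
  have h4 : q ^ n * q ^ m ≤ q ^ n * num q n m := Nat.mul_le_mul_left _ (by omega)
  have h5 : (q ^ n - 1) * q ^ m < q ^ n * q ^ m := Nat.mul_lt_mul_of_pos_right (by omega) (by omega)
  omega

theorem card_fixed_mul_le {z : F} {o m : ℕ} (ho : orderOf z = o) (hom : o * m = n) (hn : 0 < n) :
    (Fintype.card F - 1) *
        Nat.card {C : ConjClasses (Matrix.SpecialLinearGroup (Fin n) F) // ∃ a, ConjClasses.mk a = C ∧ Fixed z a} ≤
      num (Fintype.card F) n m + ∑ e ∈ divs (Fintype.card F) m, (e ^ 2 - 1) * num (Fintype.card F) n (m / e) := by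
  classical
  have hq : 1 < Fintype.card F := Fintype.one_lt_card
  have hm : 0 < m := Nat.pos_of_ne_zero fun h => by rw [h, mul_zero] at hom; omega
  refine (Nat.mul_le_mul_left _ (card_fixed_le_sum ho hom hn)).trans ((sum_delta_le n m o).trans ?_)
  calc ∑ g ∈ codes F n m, delta g ^ 2
      ≤ ∑ g ∈ codes F n m, (1 + ∑ e ∈ divs (Fintype.card F) m, if ∀ j ∈ parts g, e ∣ j then e ^ 2 - 1 else 0) := by
        refine Finset.sum_le_sum fun g hg => ?_
        by_cases h1 : delta g = 1
        · rw [h1]; simp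
        have hd : ∀ j ∈ parts g, delta g ∣ j := fun j hj => (Nat.gcd_dvd_right _ _).trans (Finset.gcd_dvd hj)
        have hmem : delta g ∈ divs (Fintype.card F) m := by
          refine Finset.mem_filter.2 ⟨Finset.mem_erase.2 ⟨h1, Nat.mem_divisors.2 ⟨?_, hm.ne'⟩⟩, Nat.gcd_dvd_left _ _⟩
          rw [← (mem_codes.1 hg).2]
          exact count_parts g hd
        have h2 := Finset.single_le_sum (f := fun e => if ∀ j ∈ parts g, e ∣ j then e ^ 2 - 1 else 0)
          (fun _ _ => Nat.zero_le _) hmem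
        simp only [if_pos hd] at h2
        omega
    _ ≤ _ := by
        rw [Finset.sum_add_distrib, Finset.sum_const, smul_eq_mul, mul_one, Finset.sum_comm]
        refine add_le_add (card_codes n m) (Finset.sum_le_sum fun e he => ?_)
        rw [← Finset.sum_filter, Finset.sum_const, smul_eq_mul, mul_comm]
        exact Nat.mul_le_mul_left _ (card_codes_dvd (Nat.pos_of_mem_divisors (Finset.mem_of_mem_erase (Finset.mem_of_mem_filter e he))))

theorem card_fixed_le_bd {z : F} {o m : ℕ} (ho : orderOf z = o) (hom : o * m = n) (hn : 0 < n) :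
    Nat.card {C : ConjClasses (Matrix.SpecialLinearGroup (Fin n) F) // ∃ a, ConjClasses.mk a = C ∧ Fixed z a} ≤
      bd (Fintype.card F) m := by
  have hq : 1 < Fintype.card F := Fintype.one_lt_card
  have hm : 0 < m := Nat.pos_of_ne_zero fun h => by rw [h, mul_zero] at hom; omega
  refine Nat.le_of_mul_le_mul_left ?_ (by omega : 0 < Fintype.card F - 1)
  refine (card_fixed_mul_le ho hom hn).trans ?_
  rw [bd, mul_add, Finset.mul_sum, geo_mul _ _ hq.le]
  refine add_le_add (num_le _ _ _ hq.le hm) (Finset.sum_le_sum fun e he => ?_)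
  rw [mul_left_comm, geo_mul _ _ hq.le]
  refine Nat.mul_le_mul_left _ (num_le _ _ _ hq.le ?_)
  obtain ⟨h1, -⟩ := Nat.mem_divisors.1 (Finset.mem_of_mem_erase (Finset.mem_of_mem_filter e he))
  exact (Nat.one_le_div_iff (Nat.pos_of_dvd_of_pos h1 hm)).2 (Nat.le_of_dvd hm h1)

end Cfsg.Agent.Lib.GLClasses
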