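import Mathlib

/-!
Determinants of multiplication by polynomials on `F[X]/(r)` and on finite products.
-/

set_option autoImplicit false

namespace Cfsg.Agent.Lib.GLClasses

open Polynomial

variable {F : Type*} [Field F]

/-- Determinant of a componentwise endomorphism of a finite product. -/
theorem det_piMap {ι : Type*} [Fintype ι] {M : ι → Type*} [∀ i, AddCommGroup (M i)] [∀ i, Module F (M i)]
    [∀ i, FiniteDimensional F (M i)] (f : ∀ i, M i →ₗ[F] M i) :
    LinearMap.det (LinearMap.pi fun i => (f i).comp (LinearMap.proj i)) = ∏ i, LinearMap.det (f i) := by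
  classical
  let κ : ι → Type _ := fun i => Fin (Module.finrank F (M i))
  let b : ∀ i, Module.Basis (κ i) F (M i) := fun i => Module.finBasis F (M i)
  let _ : LinearOrder ι := LinearOrder.lift' (Fintype.equivFin ι) (Equiv.injective _)
  let B := Pi.basis b
  have h : LinearMap.toMatrix B B (LinearMap.pi fun i => (f i).comp (LinearMap.proj i)) =
      Matrix.blockDiagonal' fun i => LinearMap.toMatrix (b i) (b i) (f i) := by
    ext ⟨i, a⟩ ⟨j, c⟩
    rw [LinearMap.toMatrix_apply, Matrix.blockDiagonal'_apply]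
    simp only [B, Pi.basis_repr, Pi.basis_apply, LinearMap.pi_apply, LinearMap.comp_apply, LinearMap.proj_apply]
    split_ifs with hij
    · subst hij
      simp [LinearMap.toMatrix_apply]
    · simp [Pi.single_eq_of_ne hij]
  rw [← LinearMap.det_toMatrix B, h, (Matrix.blockTriangular_blockDiagonal' _).det_fintype]
  refine Finset.prod_congr rfl fun i _ => ?_
  rw [← LinearMap.det_toMatrix (b i)]
  let e : {x : Σ j, κ j // x.1 = i} ≃ κ i :=
    { toFun := fun x => x.2 ▸ x.1.2
      invFun := fun a => ⟨⟨i, a⟩, rfl⟩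
      left_inv := by rintro ⟨⟨j, a⟩, h⟩; subst h; rfl
      right_inv := fun a => rfl }
  rw [← Matrix.det_reindex_self e]
  congr 1
  ext a c
  show (Matrix.blockDiagonal' fun i => LinearMap.toMatrix (b i) (b i) (f i)) ⟨i, a⟩ ⟨i, c⟩ = _
  rw [Matrix.blockDiagonal'_apply_eq]

/-- Multiplication by a polynomial on `F[X]/(r)`. -/
noncomputable def mulQuot (r g : F[X]) : (F[X] ⧸ Ideal.span {r}) →ₗ[F] F[X] ⧸ Ideal.span {r} :=
  (LinearMap.lsmul F[X] (F[X] ⧸ Ideal.span {r}) g).restrictScalars F

theorem mulQuot_eq_mulLeft (r g : F[X]) :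
    mulQuot r g = LinearMap.mulLeft F (Ideal.Quotient.mk (Ideal.span {r}) g) := by
  refine LinearMap.ext fun x => ?_
  obtain ⟨x, rfl⟩ := Submodule.Quotient.mk_surjective _ x
  rfl

theorem det_mulQuot_eq_norm (r g : F[X]) :
    LinearMap.det (mulQuot r g) = Algebra.norm F (AdjoinRoot.mk r g) := by
  rw [mulQuot_eq_mulLeft]
  rfl

/-- Multiplicativity in the modulus. -/
theorem det_mulQuot_mul {a b : F[X]} (ha : a.Monic) (hb : b.Monic) (g : F[X]) :
    LinearMap.det (mulQuot (a * b) g) = LinearMap.det (mulQuot a g) * LinearMap.det (mulQuot b g) := by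
  have := (ha.mul hb).finite_quotient
  have := ha.finite_quotient
  have := hb.finite_quotient
  let π : (F[X] ⧸ Ideal.span {a * b}) →ₗ[F[X]] F[X] ⧸ Ideal.span {a} :=
    Submodule.factor (Ideal.span_singleton_le_span_singleton.2 (dvd_mul_right a b))
  have hπ : Function.Surjective π :=
    Submodule.factor_surjective (Ideal.span_singleton_le_span_singleton.2 (dvd_mul_right a b))
  let W : Submodule F (F[X] ⧸ Ideal.span {a * b}) := LinearMap.ker (π.restrictScalars F)
  have hmap : ∀ x, π (mulQuot (a * b) g x) = mulQuot a g (π x) := fun x => map_smul π g x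
  have hW : W ≤ W.comap (mulQuot (a * b) g) := by
    intro x hx
    simp only [W, Submodule.mem_comap, LinearMap.mem_ker, LinearMap.restrictScalars_apply] at hx ⊢
    rw [hmap, hx, map_zero]
  let L : (F[X] ⧸ Ideal.span {b}) →ₗ[F[X]] F[X] ⧸ Ideal.span {a * b} :=
    Submodule.liftQ _ ((Submodule.mkQ _).comp (LinearMap.lsmul F[X] F[X] a)) (by
      intro x hx
      obtain ⟨c, rfl⟩ := Ideal.mem_span_singleton.1 hx
      simp only [LinearMap.mem_ker, LinearMap.comp_apply, Submodule.mkQ_apply, LinearMap.lsmul_apply, smul_eq_mul,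
        Submodule.Quotient.mk_eq_zero, Ideal.mem_span_singleton]
      exact ⟨c, by ring⟩)
  have hL : Function.Injective L := by
    rw [← LinearMap.ker_eq_bot, LinearMap.ker_eq_bot']
    intro x hx
    obtain ⟨x, rfl⟩ := Submodule.Quotient.mk_surjective _ x
    replace hx : (Submodule.Quotient.mk (a * x) : F[X] ⧸ Ideal.span {a * b}) = 0 := hx
    rw [Submodule.Quotient.mk_eq_zero, Ideal.mem_span_singleton] at hx ⊢
    exact (mul_dvd_mul_iff_left ha.ne_zero).1 hx
  have hrange : LinearMap.range (L.restrictScalars F) = W := by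
    ext y
    simp only [W, LinearMap.mem_range, LinearMap.mem_ker, LinearMap.restrictScalars_apply]
    obtain ⟨y, rfl⟩ := Submodule.Quotient.mk_surjective _ y
    show (∃ x, L x = Submodule.Quotient.mk y) ↔ (Submodule.Quotient.mk y : F[X] ⧸ Ideal.span {a}) = 0
    rw [Submodule.Quotient.mk_eq_zero, Ideal.mem_span_singleton]
    constructor
    · rintro ⟨x, hx⟩
      obtain ⟨x, rfl⟩ := Submodule.Quotient.mk_surjective _ x
      replace hx : (Submodule.Quotient.mk (a * x) : F[X] ⧸ Ideal.span {a * b}) = Submodule.Quotient.mk y := hx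
      rw [Submodule.Quotient.eq, Ideal.mem_span_singleton] at hx
      have h1 := dvd_sub (dvd_mul_right a x) ((dvd_mul_right a b).trans hx)
      simpa using h1
    · rintro ⟨c, rfl⟩
      exact ⟨Submodule.Quotient.mk c, rfl⟩
  let e1 : (F[X] ⧸ Ideal.span {b}) ≃ₗ[F] W :=
    (LinearEquiv.ofInjective (L.restrictScalars F) hL).trans (LinearEquiv.ofEq _ _ hrange)
  let e2 : ((F[X] ⧸ Ideal.span {a * b}) ⧸ W) ≃ₗ[F] F[X] ⧸ Ideal.span {a} :=
    LinearMap.quotKerEquivOfSurjective (π.restrictScalars F) hπ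
  rw [LinearMap.det_eq_det_mul_det W _ hW, mul_comm]
  congr 1
  · rw [← LinearMap.det_conj ((W.mapQ W (mulQuot (a * b) g) hW)) e2]
    congr 1
    refine LinearMap.ext fun x => ?_
    obtain ⟨y, rfl⟩ := hπ x
    have he : e2.symm (π y) = Submodule.Quotient.mk y := by
      rw [LinearEquiv.symm_apply_eq]
      rfl
    simp only [LinearMap.comp_apply, LinearEquiv.coe_coe, he, Submodule.mapQ_apply]
    exact hmap y
  · rw [← LinearMap.det_conj (mulQuot b g) e1]
    congr 1
    refine LinearMap.ext fun x => Subtype.ext ?_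
    obtain ⟨y, rfl⟩ := e1.surjective x
    simp only [LinearMap.comp_apply, LinearEquiv.coe_coe, LinearEquiv.symm_apply_apply, LinearMap.restrict_coe_apply]
    show g • L y = L (g • y)
    rw [map_smul]

theorem det_mulQuot_one (g : F[X]) : LinearMap.det (mulQuot 1 g) = 1 := by
  have : Subsingleton (F[X] ⧸ Ideal.span {(1 : F[X])}) := by
    rw [Submodule.Quotient.subsingleton_iff]; exact Ideal.span_singleton_one
  exact LinearMap.det_eq_one_of_subsingleton _

theorem det_mulQuot_pow {f : F[X]} (hf : f.Monic) (g : F[X]) :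
    ∀ e : ℕ, LinearMap.det (mulQuot (f ^ e) g) = LinearMap.det (mulQuot f g) ^ e
  | 0 => by rw [pow_zero, pow_zero]; exact det_mulQuot_one g
  | e + 1 => by rw [pow_succ, det_mulQuot_mul (hf.pow e) hf, det_mulQuot_pow hf g e, pow_succ]

theorem det_mulQuot_X {r : F[X]} (hr : r.Monic) :
    LinearMap.det (mulQuot r X) = (-1) ^ r.natDegree * r.coeff 0 := by
  rw [det_mulQuot_eq_norm]
  have h := Algebra.PowerBasis.norm_gen_eq_coeff_zero_minpoly (AdjoinRoot.powerBasis hr.ne_zero)
  rw [AdjoinRoot.powerBasis_gen, AdjoinRoot.powerBasis_dim, AdjoinRoot.minpoly_root hr.ne_zero, hr.leadingCoeff,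
    inv_one, map_one, mul_one] at h
  rw [AdjoinRoot.mk_X]
  exact h

/-- Every `e`-th power is a determinant on `F[X]/(f^e)`. -/
theorem exists_det_mulQuot [Fintype F] {f : F[X]} (hf : Irreducible f) (hm : f.Monic) (e : ℕ) {c : F} (hc : c ≠ 0) :
    ∃ g : F[X], IsCoprime g (f ^ e) ∧ LinearMap.det (mulQuot (f ^ e) g) = c ^ e := by
  have : Fact (Irreducible f) := ⟨hf⟩
  let pb := AdjoinRoot.powerBasis hf.ne_zero
  have : Module.Finite F (AdjoinRoot f) := pb.finite
  have : Finite (AdjoinRoot f) := Module.finite_of_finite F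
  obtain ⟨x, hx⟩ := FiniteField.norm_surjective (K := F) (K' := AdjoinRoot f) c
  obtain ⟨g, rfl⟩ := AdjoinRoot.mk_surjective x
  refine ⟨g, IsCoprime.pow_right ((hf.coprime_iff_not_dvd.2 fun hd => hc ?_).symm), ?_⟩
  · rw [← hx, AdjoinRoot.mk_eq_zero.2 hd, Algebra.norm_zero]
  · rw [det_mulQuot_pow hm, det_mulQuot_eq_norm, hx]

end Cfsg.Agent.Lib.GLClasses
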