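import Cfsg.Agent.S2478
import Cfsg.Agent.Lib.GLClasses.Det

/-!
Tuples of polynomials coding the classes of `GL n F`, with determinant and the determinants of centralisers.
-/

set_option autoImplicit false

namespace Cfsg.Agent.Lib.GLClasses

open Polynomial Cfsg.Agent.Lib.Similarity Cfsg.Agent.S2478

variable {F : Type*} [Field F] [Fintype F]

/-- A predicate: monic with non-zero constant coefficients. -/
def IsCode {n : ℕ} (g : Fin n → F[X]) : Prop := ∀ j, (g j).Monic ∧ (g j).coeff 0 ≠ 0

/-- The total size of a tuple. -/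
noncomputable def wt {n : ℕ} (g : Fin n → F[X]) : ℕ := ∑ j : Fin n, ((j : ℕ) + 1) * (g j).natDegree

/-- The exponents occurring in a tuple. -/
noncomputable def parts {n : ℕ} (g : Fin n → F[X]) : Finset ℕ :=
  (Finset.univ.filter fun j : Fin n => (g j).natDegree ≠ 0).image fun j : Fin n => (j : ℕ) + 1

/-- The divisor of `q - 1` attached to a tuple. -/
noncomputable def delta {n : ℕ} (g : Fin n → F[X]) : ℕ := Nat.gcd (Fintype.card F - 1) ((parts g).gcd id)

/-- The (twisted) determinant of a tuple. -/
noncomputable def dtm (o : ℕ) {n : ℕ} (g : Fin n → F[X]) : F :=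
  ∏ j : Fin n, ((-1) ^ (o * (g j).natDegree) * (g j).coeff 0) ^ ((j : ℕ) + 1)

open Classical in
/-- Finite set of codes of given size. -/
noncomputable def codes (F : Type*) [Field F] [Fintype F] (n m : ℕ) : Finset (Fin n → F[X]) :=
  (Fintype.piFinset fun _ : Fin n => (Finset.range (m + 1)).biUnion (polys F)).filter fun g => wt g = m

theorem mem_codes {n m : ℕ} {g : Fin n → F[X]} : g ∈ codes F n m ↔ IsCode g ∧ wt g = m := by
  classical
  simp only [codes, Finset.mem_filter, Fintype.mem_piFinset, Finset.mem_biUnion, Finset.mem_range, mem_polys]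
  constructor
  · rintro ⟨h, hw⟩
    refine ⟨fun j => ?_, hw⟩
    obtain ⟨d, -, h1, -, h3⟩ := h j
    exact ⟨h1, h3⟩
  · rintro ⟨h, hw⟩
    refine ⟨fun j => ⟨(g j).natDegree, Nat.lt_succ_of_le ?_, (h j).1, rfl, (h j).2⟩, hw⟩
    rw [← hw]
    exact (Nat.le_mul_of_pos_left _ (Nat.succ_pos (j : ℕ))).trans
      (Finset.single_le_sum (f := fun i : Fin n => ((i : ℕ) + 1) * (g i).natDegree) (fun _ _ => Nat.zero_le _) (Finset.mem_univ j))

/-- Extension by one outside `1, …, n`. -/
noncomputable def extend {n : ℕ} (g : Fin n → F[X]) (j : ℕ) : F[X] :=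
  if h : 1 ≤ j ∧ j ≤ n then g ⟨j - 1, by omega⟩ else 1

omit [Fintype F] in
theorem extend_succ {n : ℕ} (g : Fin n → F[X]) (j : Fin n) : extend g ((j : ℕ) + 1) = g j := by
  rw [extend, dif_pos ⟨by omega, j.isLt⟩]
  congr 1

omit [Fintype F] in
theorem sum_fin_succ {n : ℕ} (u : ℕ → ℕ) : ∑ j : Fin n, u ((j : ℕ) + 1) = ∑ j ∈ Finset.Icc 1 n, u j := by
  refine Finset.sum_bij (fun j _ => (j : ℕ) + 1) (fun j _ => Finset.mem_Icc.2 ⟨by omega, j.isLt⟩)
    (fun a _ b _ h => Fin.ext (Nat.succ_injective h)) (fun b hb => ?_) (fun _ _ => rfl)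
  rw [Finset.mem_Icc] at hb
  exact ⟨⟨b - 1, by omega⟩, Finset.mem_univ _, by show b - 1 + 1 = b; omega⟩

theorem card_codes (n m : ℕ) : (codes F n m).card ≤ num (Fintype.card F) n m := by
  classical
  refine le_trans ?_ (card_tup (F := F) n m)
  refine Finset.card_le_card_of_injOn (fun g => code (extend g) n) (fun g hg => ?_) (fun g hg g' hg' h => ?_)
  · obtain ⟨h1, h2⟩ := mem_codes.1 hg
    refine code_mem _ (fun j => ?_) _ _ ?_
    · rw [extend]
      split_ifs with h
      · exact h1 _
      · simp [monic_one]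
    · rw [← sum_fin_succ (fun j => j * (extend g j).natDegree), ← h2, wt]
      exact Finset.sum_congr rfl fun j _ => by rw [extend_succ]
  · funext j
    have := eq_of_code_eq _ h ((j : ℕ) + 1) (Finset.mem_Icc.2 ⟨by omega, j.isLt⟩)
    rwa [extend_succ, extend_succ] at this

omit [Fintype F] in
theorem count_parts {n : ℕ} (g : Fin n → F[X]) {d : ℕ} (h : ∀ j ∈ parts g, d ∣ j) : d ∣ wt g := by
  classical
  unfold wt
  refine Finset.dvd_sum fun j _ => ?_
  by_cases h0 : (g j).natDegree = 0
  · rw [h0, mul_zero]; exact dvd_zero _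
  · exact dvd_mul_of_dvd_left (h _ (Finset.mem_image.2 ⟨j, Finset.mem_filter.2 ⟨Finset.mem_univ _, h0⟩, rfl⟩)) _

/-- Codes all of whose parts are multiples of `e` are few. -/
theorem card_codes_dvd {n m e : ℕ} (he : 0 < e) :
    ((codes F n m).filter fun g => ∀ j ∈ parts g, e ∣ j).card ≤ num (Fintype.card F) n (m / e) := by
  classical
  refine le_trans ?_ (card_codes (F := F) n (m / e))
  have hone : ∀ {g : Fin n → F[X]}, IsCode g → (∀ j ∈ parts g, e ∣ j) → ∀ j : Fin n, ¬ e ∣ (j : ℕ) + 1 → g j = 1 := by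
    intro g hg h j hj
    by_contra h1
    exact hj (h _ (Finset.mem_image.2 ⟨j, Finset.mem_filter.2 ⟨Finset.mem_univ _, fun h0 => h1 ((hg j).1.natDegree_eq_zero.1 h0)⟩, rfl⟩))
  refine Finset.card_le_card_of_injOn (fun g (i : Fin n) => extend g (e * ((i : ℕ) + 1))) (fun g hg => ?_) (fun g hg g' hg' h => ?_)
  · rw [Finset.mem_coe, Finset.mem_filter, mem_codes] at hg
    obtain ⟨⟨h1, h2⟩, h3⟩ := hg
    have key : e * wt (fun i : Fin n => extend g (e * ((i : ℕ) + 1))) = m := by
      rw [← h2]
      unfold wt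
      rw [Finset.mul_sum]
      refine Finset.sum_bij_ne_zero (fun i _ hi => (⟨e * ((i : ℕ) + 1) - 1, ?_⟩ : Fin n)) (fun _ _ _ => Finset.mem_univ _) ?_ ?_ ?_
      · simp only [extend] at hi
        split_ifs at hi with h
        · have : 1 ≤ e * ((i : ℕ) + 1) := h.1
          omega
        · simp at hi
      · intro a _ _ b _ _ hab
        have h5 := congrArg Fin.val hab
        simp only at h5
        have : 1 ≤ e * ((a : ℕ) + 1) := Nat.mul_pos he (Nat.succ_pos _)
        have : 1 ≤ e * ((b : ℕ) + 1) := Nat.mul_pos he (Nat.succ_pos _)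
        exact Fin.ext (by have := Nat.eq_of_mul_eq_mul_left he (show e * ((a : ℕ) + 1) = e * ((b : ℕ) + 1) by omega); omega)
      · intro j _ hj
        have hd : e ∣ (j : ℕ) + 1 := by
          by_contra hd
          rw [hone h1 h3 j hd] at hj
          simp at hj
        obtain ⟨c, hc⟩ := hd
        have hc1 : 1 ≤ c := Nat.pos_of_ne_zero fun h0 => by simp [h0] at hc
        have hcn : c ≤ e * c := Nat.le_mul_of_pos_left _ he
        have hjn := j.isLt
        refine ⟨⟨c - 1, by omega⟩, Finset.mem_univ _, ?_, ?_⟩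
        · simp only [show c - 1 + 1 = c by omega, ← hc, extend_succ]
          rw [← mul_assoc, ← hc]
          exact hj
        · apply Fin.ext
          show e * (c - 1 + 1) - 1 = (j : ℕ)
          rw [show c - 1 + 1 = c by omega]
          omega
      · intro i _ hi
        simp only [extend] at hi ⊢
        split_ifs at hi with h
        · simp only [dif_pos h]; rw [show e * ((i : ℕ) + 1) - 1 + 1 = e * ((i : ℕ) + 1) by omega, mul_assoc]
        · simp at hi
    rw [Finset.mem_coe, mem_codes]
    refine ⟨fun i => ?_, ?_⟩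
    · show (extend g _).Monic ∧ (extend g _).coeff 0 ≠ 0
      rw [extend]
      split_ifs with h
      · exact h1 _
      · simp [monic_one]
    · rw [← key, Nat.mul_div_cancel_left _ he]
  · rw [Finset.mem_coe, Finset.mem_filter, mem_codes] at hg hg'
    funext j
    by_cases hd : e ∣ (j : ℕ) + 1
    · obtain ⟨c, hc⟩ := hd
      have hc1 : 1 ≤ c := Nat.pos_of_ne_zero fun h0 => by simp [h0] at hc
      have hcn : c ≤ e * c := Nat.le_mul_of_pos_left _ he
      have hjn := j.isLt
      have := congrFun h ⟨c - 1, by omega⟩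
      simpa only [show c - 1 + 1 = c by omega, ← hc, extend_succ] using this
    · rw [hone hg.1.1 hg.2 j hd, hone hg'.1.1 hg'.2 j hd]

/-- Gcd's of exponents of powers lying in a subgroup. -/
theorem pow_gcd_mem {G : Type*} [CommGroup G] (H : Subgroup G) (a : ℕ) (T : Finset ℕ) (ha : ∀ w : G, w ^ a ∈ H)
    (h : ∀ j ∈ T, ∀ w : G, w ^ j ∈ H) (w : G) : w ^ Nat.gcd a (T.gcd id) ∈ H := by
  classical
  have two : ∀ b c : ℕ, w ^ b ∈ H → w ^ c ∈ H → w ^ Nat.gcd b c ∈ H := by
    intro b c hb hc
    rw [← zpow_natCast, Nat.gcd_eq_gcd_ab, zpow_add, zpow_mul, zpow_mul, zpow_natCast, zpow_natCast]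
    exact H.mul_mem (H.zpow_mem hb _) (H.zpow_mem hc _)
  refine two _ _ (ha w) ?_
  induction T using Finset.induction with
  | empty => simp
  | @insert j T hj ih =>
    rw [Finset.gcd_insert]
    exact two _ _ (h j (Finset.mem_insert_self _ _) w) (ih fun i hi => h i (Finset.mem_insert_of_mem hi))

/-- Changing constant terms, so that a sum over codes of determinant one is bounded by a sum over all codes. -/
theorem sum_delta_le [DecidableEq F] (n m o : ℕ) :
    (Fintype.card F - 1) * ∑ g ∈ (codes F n m).filter (fun g => dtm o g = 1), delta g ≤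
      ∑ g ∈ codes F n m, delta g ^ 2 := by
  classical
  let R : (Fin n → F[X]) → Finset Fˣ := fun g => Finset.univ.filter fun u : Fˣ => u ∈ (powMonoidHom (delta g)).range
  have hR : ∀ g, delta g * (R g).card = Fintype.card F - 1 := by
    intro g
    have hd : delta g ∣ Fintype.card F - 1 := Nat.gcd_dvd_left _ _
    have h1 : (R g).card = Nat.card (powMonoidHom (delta g) : Fˣ →* Fˣ).range := by
      rw [Nat.card_eq_fintype_card, Fintype.card_subtype]
    rw [h1, IsCyclic.card_powMonoidHom_range, Nat.card_units, Nat.card_eq_fintype_card,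
      Nat.gcd_eq_right hd, Nat.mul_div_cancel' hd]
  have hs : ∀ g : Fin n → F[X], ∀ u : Fˣ, ∃ s : Fin n → Fˣ,
      u ∈ R g → (∀ j, (g j).natDegree = 0 → s j = 1) ∧ ∏ j, s j ^ ((j : ℕ) + 1) = u := by
    intro g u
    by_cases hu : u ∈ R g
    · let P : Subgroup (Fin n → Fˣ) :=
        { carrier := {s | ∀ j, (g j).natDegree = 0 → s j = 1}
          mul_mem' := fun {a b} ha hb j hj => by rw [Pi.mul_apply, ha j hj, hb j hj, one_mul]
          one_mem' := fun j _ => rfl
          inv_mem' := fun {a} ha j hj => by rw [Pi.inv_apply, ha j hj, inv_one] }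
      let φ : (Fin n → Fˣ) →* Fˣ :=
        { toFun := fun s => ∏ j, s j ^ ((j : ℕ) + 1)
          map_one' := by simp
          map_mul' := fun s t => by simp [mul_pow, Finset.prod_mul_distrib] }
      obtain ⟨w, rfl⟩ := (Finset.mem_filter.1 hu).2
      obtain ⟨s, hs1, hs2⟩ := pow_gcd_mem (P.map φ) (Fintype.card F - 1) (parts g)
        (fun w => by
          rw [← Fintype.card_units, pow_card_eq_one]
          exact one_mem _)
        (fun j hj w => by
          obtain ⟨i, hi, rfl⟩ := Finset.mem_image.1 hj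
          refine ⟨Pi.mulSingle i w, fun k hk => ?_, ?_⟩
          · exact Pi.mulSingle_eq_of_ne (fun h => (Finset.mem_filter.1 hi).2 (by rw [← h]; exact hk)) _
          · show ∏ k, (Pi.mulSingle i w : Fin n → Fˣ) k ^ ((k : ℕ) + 1) = w ^ ((i : ℕ) + 1)
            rw [Finset.prod_eq_single i (fun k _ hk => by rw [Pi.mulSingle_eq_of_ne hk, one_pow]) (by simp),
              Pi.mulSingle_eq_same]) w
      exact ⟨s, fun _ => ⟨hs1, hs2⟩⟩
    · exact ⟨1, fun h => absurd h hu⟩
  choose s0 hs0 using hs
  let g0 : (Fin n → F[X]) → Fin n → F[X] := fun g j => X ^ (g j).natDegree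
  have hg0 : ∀ g, R (g0 g) = R g := by
    intro g
    have he : delta (g0 g) = delta g := by simp [delta, parts, g0]
    show Finset.univ.filter _ = Finset.univ.filter _
    rw [he]
  let s : (Fin n → F[X]) → Fˣ → Fin n → Fˣ := fun g u => s0 (g0 g) u
  have hs : ∀ g u, u ∈ R g → (∀ j, (g j).natDegree = 0 → s g u j = 1) ∧ ∏ j, s g u j ^ ((j : ℕ) + 1) = u := by
    intro g u hu
    have := hs0 (g0 g) u (by rwa [hg0])
    simpa only [g0, natDegree_X_pow] using this
  let S := (codes F n m).filter (fun g => dtm o g = 1)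
  let act : (Fin n → Fˣ) → (Fin n → F[X]) → Fin n → F[X] := fun t g j =>
    g j + C ((((t j : Fˣ) : F) - 1) * (g j).coeff 0)
  have hact0 : ∀ (t : Fin n → Fˣ) g j, (act t g j).coeff 0 = (t j : F) * (g j).coeff 0 := by
    intro t g j; simp [act, sub_mul]
  have hactd : ∀ (t : Fin n → Fˣ) g j, (act t g j).natDegree = (g j).natDegree := by
    intro t g j; exact natDegree_add_C
  have hdel : ∀ t g, delta (act t g) = delta g := by
    intro t g; simp only [delta, parts, hactd]
  calc (Fintype.card F - 1) * ∑ g ∈ S, delta g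
      = ∑ g ∈ S, ∑ _u ∈ R g, delta g ^ 2 := by
        rw [Finset.mul_sum]
        refine Finset.sum_congr rfl fun g _ => ?_
        rw [Finset.sum_const, smul_eq_mul, ← hR g]
        ring
    _ = ∑ p ∈ S.sigma R, delta (act (s p.1 p.2) p.1) ^ 2 := by
        rw [Finset.sum_sigma]
        exact Finset.sum_congr rfl fun g _ => Finset.sum_congr rfl fun u _ => by rw [hdel]
    _ = ∑ g ∈ (S.sigma R).image (fun p => act (s p.1 p.2) p.1), delta g ^ 2 := by
        rw [Finset.sum_image]
        rintro ⟨g, u⟩ hg ⟨g', u'⟩ hg' h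
        simp only [S, Finset.mem_coe, Finset.mem_sigma, Finset.mem_filter] at hg hg'
        simp only at h
        have hdt : ∀ g u, dtm o g = 1 → u ∈ R g → dtm o (act (s g u) g) = (u : F) := by
          intro g u h1 hu
          calc dtm o (act (s g u) g) = ((∏ j, s g u j ^ ((j : ℕ) + 1) : Fˣ) : F) * dtm o g := by
                rw [Units.coe_prod, dtm, dtm, ← Finset.prod_mul_distrib]
                refine Finset.prod_congr rfl fun j _ => ?_
                rw [hact0, hactd, Units.val_pow_eq_pow_val, ← mul_pow]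
                ring
            _ = (u : F) := by rw [(hs g u hu).2, h1, mul_one]
        have hu : u = u' := Units.ext (by rw [← hdt g u hg.1.2 hg.2, h, hdt g' u' hg'.1.2 hg'.2])
        subst hu
        have hpp : g0 g = g0 g' := funext fun j => by
          show X ^ (g j).natDegree = X ^ (g' j).natDegree
          rw [← hactd (s g u) g j, h, hactd]
        have hst : s g u = s g' u := by simp only [s, hpp]
        have hgg : g = g' := funext fun j => by
          have h0 : ∀ g, (act (s g u) g j).coeff 0 = (s g u j : F) * (g j).coeff 0 := fun g => hact0 _ _ _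
          have hc := congrArg (fun p : F[X] => p.coeff 0) (congrFun h j)
          simp only [hact0, hst] at hc
          have hc' := mul_left_cancel₀ (Units.ne_zero _) hc
          have he := congrFun h j
          simp only [act, hst, hc'] at he
          exact add_right_cancel he
        subst hgg
        rfl
    _ ≤ ∑ g ∈ codes F n m, delta g ^ 2 := by
        refine Finset.sum_le_sum_of_subset fun g hg => ?_
        obtain ⟨⟨g, u⟩, hgu, rfl⟩ := Finset.mem_image.1 hg
        simp only [S, Finset.mem_sigma, Finset.mem_filter, mem_codes] at hgu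
        obtain ⟨⟨⟨h1, h2⟩, -⟩, hu⟩ := hgu
        refine mem_codes.2 ⟨fun j => ⟨?_, ?_⟩, ?_⟩
        · by_cases h0 : (g j).natDegree = 0
          · simp only [act, (hs g u hu).1 j h0]; simpa using (h1 j).1
          · refine (h1 j).1.add_of_left (degree_C_le.trans_lt ?_)
            exact natDegree_pos_iff_degree_pos.1 (Nat.pos_of_ne_zero h0)
        · rw [hact0]; exact mul_ne_zero (Units.ne_zero _) (h1 j).2
        · simp only [wt, hactd]; exact h2

end Cfsg.Agent.Lib.GLClasses
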