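import Cfsg.Agent.Lib.GLClasses.SLCount

/-!
Bounds for the number of classes of `SL n F`.
-/

set_option autoImplicit false

namespace Cfsg.Agent.Lib.GLClasses

open Polynomial Cfsg.Agent.S2478

theorem geo_succ (q m : ℕ) : geo q (m + 1) = geo q m + q ^ m := Finset.sum_range_succ _ _

theorem geo_mono (q : ℕ) {a b : ℕ} (h : a ≤ b) : geo q a ≤ geo q b :=
  Finset.sum_le_sum_of_subset (Finset.range_mono h)

theorem geo_le (q m : ℕ) (hq : 2 ≤ q) : geo q m ≤ q ^ m := by
  refine le_trans ?_ (Nat.sub_le _ 1)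
  rw [← geo_mul q m (by omega)]
  exact Nat.le_mul_of_pos_left _ (by omega)

theorem geo_top (q n : ℕ) (hq : 2 ≤ q) (hn : 2 ≤ n) : geo q n ≤ q ^ (n - 1) + 2 * q ^ (n - 2) := by
  obtain ⟨d, rfl⟩ := Nat.exists_eq_add_of_le' hn
  rw [show d + 2 - 1 = d + 1 by omega, Nat.add_sub_cancel, geo_succ, geo_succ]
  have := geo_le q d hq
  omega

theorem bd_rest_le (q m : ℕ) (hq : 2 ≤ q) :
    ∑ e ∈ divs q m, (e ^ 2 - 1) * geo q (m / e) ≤ q ^ (2 + m / 2) := by
  have h : ∀ e ∈ divs q m, (e ^ 2 - 1) * geo q (m / e) ≤ (q - 1) * q ^ (m / 2) := by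
    intro e he
    simp only [divs, Finset.mem_filter, Finset.mem_erase, Nat.mem_divisors] at he
    obtain ⟨⟨h1, h2, h3⟩, h4⟩ := he
    have he0 : e ≠ 0 := fun h => h3 (Nat.eq_zero_of_zero_dvd (h ▸ h2))
    have he2 : 2 ≤ e := by omega
    calc (e ^ 2 - 1) * geo q (m / e) ≤ ((q - 1) * (q - 1)) * geo q (m / 2) := by
          refine Nat.mul_le_mul ((Nat.sub_le _ _).trans ?_) (geo_mono q (Nat.div_le_div_left he2 (by omega)))
          rw [sq]
          exact Nat.mul_le_mul (Nat.le_of_dvd (by omega) h4) (Nat.le_of_dvd (by omega) h4)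
      _ = (q - 1) * (q ^ (m / 2) - 1) := by rw [mul_assoc, geo_mul q _ (by omega)]
      _ ≤ _ := Nat.mul_le_mul_left _ (Nat.sub_le _ _)
  have hc : (divs q m).card ≤ q := by
    refine (Finset.card_le_card (t := Finset.Icc 1 q) fun e he => ?_).trans (by simp)
    simp only [divs, Finset.mem_filter, Finset.mem_erase, Nat.mem_divisors] at he
    obtain ⟨⟨-, h2, h3⟩, h4⟩ := he
    have := Nat.le_of_dvd (by omega) h4
    exact Finset.mem_Icc.2 ⟨Nat.pos_of_ne_zero fun h => h3 (Nat.eq_zero_of_zero_dvd (h ▸ h2)), by omega⟩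
  refine (Finset.sum_le_card_nsmul _ _ _ h).trans ?_
  rw [smul_eq_mul, pow_add, sq, mul_assoc]
  exact Nat.mul_le_mul hc (Nat.mul_le_mul_right _ (Nat.sub_le _ _))

theorem bd_one (q : ℕ) : bd q 1 = 1 := by
  have : divs q 1 = ∅ := by simp [divs]
  simp [bd, this, geo]

theorem bd_two (q : ℕ) : bd q 2 ≤ q + 4 := by
  have : divs q 2 ⊆ {2} := by
    intro e he
    simp only [divs, Finset.mem_filter, show (2 : ℕ).divisors.erase 1 = {2} by decide] at he
    exact he.1
  refine le_trans (Nat.add_le_add_left (Finset.sum_le_sum_of_subset this) _) ?_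
  simp [geo, Finset.sum_range_succ]
  omega

theorem bd_three (q : ℕ) : bd q 3 ≤ q ^ 2 + q + 9 := by
  have : divs q 3 ⊆ {3} := by
    intro e he
    simp only [divs, Finset.mem_filter, show (3 : ℕ).divisors.erase 1 = {3} by decide] at he
    exact he.1
  refine le_trans (Nat.add_le_add_left (Finset.sum_le_sum_of_subset this) _) ?_
  simp [geo, Finset.sum_range_succ]
  omega

theorem bd_le_of_seven (q n : ℕ) (hq : 2 ≤ q) (hn : 7 ≤ n) : bd q n ≤ q ^ (n - 1) + 3 * q ^ (n - 2) := by
  have h1 := geo_top q n hq (by omega)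
  have h2 := bd_rest_le q n hq
  have h3 : q ^ (2 + n / 2) ≤ q ^ (n - 2) := Nat.pow_le_pow_right (by omega) (by omega)
  rw [bd]
  omega

theorem bd_four (q : ℕ) (hq : 2 ≤ q) : bd q 4 ≤ q ^ 3 + 3 * q ^ 2 := by
  rw [bd, divs, show (4 : ℕ).divisors.erase 1 = {2, 4} by decide, Finset.sum_filter,
    Finset.sum_pair (by omega : (2 : ℕ) ≠ 4)]
  simp only [geo, Finset.sum_range_succ, Finset.sum_range_zero, show 4 / 2 = 2 from rfl, show 4 / 4 = 1 from rfl]
  norm_num
  split_ifs with h2 h4 h4
  · have := Nat.le_of_dvd (by omega) h4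
    have : 5 * q ≤ q ^ 2 := by nlinarith [show 5 ≤ q by omega]
    nlinarith
  · have := Nat.le_of_dvd (by omega) h2
    have : 3 * q ≤ q ^ 2 := by nlinarith [show 3 ≤ q by omega]
    nlinarith
  · exact absurd (dvd_trans (by decide : 2 ∣ 4) h4) h2
  · nlinarith

theorem bd_five (q : ℕ) (hq : 2 ≤ q) : bd q 5 ≤ q ^ 4 + 3 * q ^ 3 := by
  rw [bd, divs, show (5 : ℕ).divisors.erase 1 = {5} by decide, Finset.sum_filter, Finset.sum_singleton]
  simp only [geo, Finset.sum_range_succ, Finset.sum_range_zero, show 5 / 5 = 1 from rfl]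
  norm_num
  have h1 : 2 * q ^ 2 ≤ q ^ 3 := by nlinarith [Nat.mul_le_mul_right (q ^ 2) hq]
  have h1' : 2 * q ≤ q ^ 2 := by nlinarith
  split_ifs with h
  · have := Nat.le_of_dvd (by omega) h
    have : 6 * q ^ 2 ≤ q ^ 3 := by nlinarith [Nat.mul_le_mul_right (q ^ 2) (show 6 ≤ q by omega)]
    have : 6 * q ≤ q ^ 2 := by nlinarith [show 6 ≤ q by omega]
    nlinarith
  · nlinarith

theorem bd_six (q : ℕ) (hq : 2 ≤ q) : bd q 6 ≤ q ^ 5 + 3 * q ^ 4 := by
  rw [bd, divs, show (6 : ℕ).divisors.erase 1 = {2, 3, 6} by decide, Finset.sum_filter,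
    Finset.sum_insert (by decide), Finset.sum_pair (by omega : (3 : ℕ) ≠ 6)]
  simp only [geo, Finset.sum_range_succ, Finset.sum_range_zero, show 6 / 2 = 3 from rfl, show 6 / 3 = 2 from rfl, show 6 / 6 = 1 from rfl]
  norm_num
  have h43 : 2 * q ^ 3 ≤ q ^ 4 := by nlinarith [Nat.mul_le_mul_right (q ^ 3) hq]
  have h32 : 2 * q ^ 2 ≤ q ^ 3 := by nlinarith [Nat.mul_le_mul_right (q ^ 2) hq]
  have h21 : 2 * q ≤ q ^ 2 := by nlinarith
  by_cases h6 : 6 ∣ q - 1
  · have := Nat.le_of_dvd (by omega) h6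
    have : 7 * q ≤ q ^ 2 := by nlinarith [show 7 ≤ q by omega]
    simp only [h6, (dvd_trans (by decide : 2 ∣ 6) h6), (dvd_trans (by decide : 3 ∣ 6) h6), if_true]
    nlinarith [show 7 ≤ q by omega]
  · simp only [h6, if_false]
    split_ifs with h2 h3 h3
    · exact absurd (Nat.Coprime.mul_dvd_of_dvd_of_dvd (by decide) h2 h3) h6
    · have := Nat.le_of_dvd (by omega) h2
      have : 3 * q ≤ q ^ 2 := by nlinarith [show 3 ≤ q by omega]
      nlinarith [show 3 ≤ q by omega]
    · have := Nat.le_of_dvd (by omega) h3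
      have : 4 * q ≤ q ^ 2 := by nlinarith [show 4 ≤ q by omega]
      nlinarith [show 4 ≤ q by omega]
    · nlinarith

variable {F : Type*} [Field F] [Fintype F] {n : ℕ}

theorem card_classes_le (hn : 0 < n) :
    Nat.card (ConjClasses (Matrix.SpecialLinearGroup (Fin n) F)) ≤ bd (Fintype.card F) n := by
  classical
  refine le_trans (le_of_eq ?_) (card_fixed_le_bd (F := F) (z := 1) (o := 1) (m := n) orderOf_one (one_mul n) hn)
  exact (Nat.card_congr (Equiv.subtypeUnivEquiv fun C => by
    obtain ⟨a, rfl⟩ := ConjClasses.exists_rep C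
    exact ⟨a, rfl, 1, by simp⟩)).symm

theorem card_classes_three :
    Nat.card (ConjClasses (Matrix.SpecialLinearGroup (Fin 3) F)) ≤ Fintype.card F ^ 2 + 3 * Fintype.card F := by
  classical
  have h := card_fixed_mul_le (F := F) (z := 1) (o := 1) (m := 3) orderOf_one (one_mul 3) (by omega)
  rw [Nat.card_congr (Equiv.subtypeUnivEquiv fun C => by
    obtain ⟨a, rfl⟩ := ConjClasses.exists_rep C
    exact ⟨a, rfl, 1, by simp⟩)] at h
  obtain ⟨t, ht, ht1⟩ : ∃ t, Fintype.card F = t + 1 ∧ 1 ≤ t :=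
    ⟨Fintype.card F - 1, by have := Fintype.one_lt_card (α := F); omega, by have := Fintype.one_lt_card (α := F); omega⟩
  rw [ht] at h ⊢
  rw [Nat.add_sub_cancel, divs, show (3 : ℕ).divisors.erase 1 = {3} by decide, Finset.sum_filter, Finset.sum_singleton] at h
  simp [num, cnt, Finset.sum_range_succ] at h
  rw [Nat.card_eq_fintype_card]
  refine Nat.le_of_mul_le_mul_left (h.trans ?_) ht1
  split_ifs with h3
  · have := Nat.le_of_dvd (by omega) h3
    nlinarith
  · nlinarith

theorem card_classes_le_of_three_le (hn : 3 ≤ n) :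
    Nat.card (ConjClasses (Matrix.SpecialLinearGroup (Fin n) F)) ≤
      Fintype.card F ^ (n - 1) + 3 * Fintype.card F ^ (n - 2) := by
  have hq : 2 ≤ Fintype.card F := Fintype.one_lt_card
  rcases (by omega : n = 3 ∨ n = 4 ∨ n = 5 ∨ n = 6 ∨ 7 ≤ n) with rfl | rfl | rfl | rfl | h
  · simpa using card_classes_three (F := F)
  · exact (card_classes_le (by omega)).trans (bd_four _ hq)
  · exact (card_classes_le (by omega)).trans (bd_five _ hq)
  · exact (card_classes_le (by omega)).trans (bd_six _ hq)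
  · exact (card_classes_le (by omega)).trans (bd_le_of_seven _ _ hq h)

/-- The companion classes and the identity. -/
theorem lt_card_classes (hn : 2 ≤ n) :
    Fintype.card F ^ (n - 1) < Nat.card (ConjClasses (Matrix.SpecialLinearGroup (Fin n) F)) := by
  classical
  obtain ⟨d, rfl⟩ := Nat.exists_eq_add_of_le' hn
  let cf : (Fin (d + 1) → F) → F[X] := fun c =>
    X ^ (d + 2) + ∑ i : Fin (d + 2), C ((Fin.cons ((-1) ^ (d + 2)) c : Fin (d + 2) → F) i) * X ^ (i : ℕ)
  have hcoeff : ∀ c (i : Fin (d + 2)), (cf c).coeff i = (Fin.cons ((-1) ^ (d + 2)) c : Fin (d + 2) → F) i :=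
    fun c i => coeff_poly _ i
  have hmem : ∀ c, cf c ∈ polys F (d + 2) := by
    intro c
    rw [polys]
    refine Finset.mem_image.2 ⟨_, Finset.mem_filter.2 ⟨Finset.mem_univ _, ?_⟩, rfl⟩
    rw [Fin.cons_zero]
    exact pow_ne_zero _ (neg_ne_zero.2 one_ne_zero)
  choose comp hcomp using fun c => exists_companion (hmem c)
  have hdet : ∀ c, (comp c : Matrix (Fin (d + 2)) (Fin (d + 2)) F).det = 1 := by
    intro c
    rw [Matrix.det_eq_sign_charpoly_coeff, hcomp, Fintype.card_fin]
    have := hcoeff c 0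
    rw [Fin.val_zero, Fin.cons_zero] at this
    rw [this, ← mul_pow, neg_one_mul, neg_neg, one_pow]
  let rep : Option (Fin (d + 1) → F) → Matrix.SpecialLinearGroup (Fin (d + 2)) F := fun o =>
    o.elim 1 fun c => if cf c = (X - 1) ^ (d + 2) then
      Matrix.SpecialLinearGroup.transvection (show (0 : Fin (d + 2)) ≠ 1 by simp) (1 : F) else (⟨(comp c : Matrix (Fin (d + 2)) (Fin (d + 2)) F), hdet c⟩ : Matrix.SpecialLinearGroup (Fin (d + 2)) F)
  have htv : ((Matrix.SpecialLinearGroup.transvection (show (0 : Fin (d + 2)) ≠ 1 by simp) (1 : F) :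
      Matrix.SpecialLinearGroup (Fin (d + 2)) F) : Matrix (Fin (d + 2)) (Fin (d + 2)) F).charpoly = (X - 1) ^ (d + 2) := by
    rw [Matrix.charpoly_of_upperTriangular]
    · simp [Matrix.SpecialLinearGroup.transvection, Matrix.transvection, Matrix.single_apply]
      rw [Finset.prod_eq_pow_card (b := (X : F[X]) - 1)]
      · simp
      · intro i _
        by_cases h : (0 : Fin (d + 2)) = i
        · subst h; simp
        · simp [h]
    · intro i j hij
      simp only [Matrix.SpecialLinearGroup.transvection, Matrix.transvection, id_eq] at hij ⊢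
      rw [Matrix.add_apply, Matrix.one_apply_ne hij.ne', Matrix.single_apply, if_neg, add_zero]
      rintro ⟨rfl, rfl⟩
      exact absurd hij (by simp)
  have hcp : ∀ c, ((rep (some c) : Matrix.SpecialLinearGroup (Fin (d + 2)) F) : Matrix (Fin (d + 2)) (Fin (d + 2)) F).charpoly = cf c := by
    intro c
    by_cases h : cf c = (X - 1) ^ (d + 2)
    · rw [show rep (some c) = _ from if_pos h, htv, h]
    · rw [show rep (some c) = _ from if_neg h]
      exact hcomp c
  have hne : ∀ c, rep (some c) ≠ 1 := by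
    intro c h1
    by_cases h : cf c = (X - 1) ^ (d + 2)
    · rw [show rep (some c) = _ from if_pos h] at h1
      have := congrArg (fun s : Matrix.SpecialLinearGroup (Fin (d + 2)) F => (s : Matrix (Fin (d + 2)) (Fin (d + 2)) F) 0 1) h1
      simp [Matrix.SpecialLinearGroup.transvection, Matrix.transvection] at this
    · refine h ?_
      rw [show rep (some c) = _ from if_neg h] at h1
      have h2 : (comp c : Matrix (Fin (d + 2)) (Fin (d + 2)) F) = 1 := congrArg Subtype.val h1
      rw [← hcomp c, h2, Matrix.charpoly_one, Fintype.card_fin]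
  have hinj : Function.Injective fun o => ConjClasses.mk (rep o) := by
    intro o o' h
    obtain ⟨s, hs⟩ := isConj_iff.1 (ConjClasses.mk_eq_mk_iff_isConj.1 h)
    rcases o with _ | c <;> rcases o' with _ | c'
    · rfl
    · exfalso; refine hne c' ?_; rw [← hs]; simp [rep]
    · exfalso
      refine hne c ?_
      simp only [rep, Option.elim_none] at hs ⊢
      exact (conj_eq_one_iff).1 hs
    · have hh : cf c = cf c' := by
        rw [← hcp c, ← hcp c', ← hs]
        simp only [Matrix.SpecialLinearGroup.coe_mul]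
        let u : (Matrix (Fin (d + 2)) (Fin (d + 2)) F)ˣ := Matrix.SpecialLinearGroup.toGL s
        have hu : ((s⁻¹ : Matrix.SpecialLinearGroup (Fin (d + 2)) F) : Matrix (Fin (d + 2)) (Fin (d + 2)) F) =
            (u : Matrix (Fin (d + 2)) (Fin (d + 2)) F)⁻¹ := by
          rw [← Matrix.coe_units_inv]
          exact congrArg Units.val (map_inv Matrix.SpecialLinearGroup.toGL s)
        rw [hu]
        exact (Matrix.charpoly_units_conj u _).symm
      congr 1
      funext i
      have := congrArg (fun p : F[X] => p.coeff (i.succ : Fin (d + 2))) hh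
      simpa only [hcoeff, Fin.cons_succ] using this
  have := Nat.card_le_card_of_injective _ hinj
  rw [Nat.card_eq_fintype_card, Fintype.card_option, Fintype.card_fun, Fintype.card_fin] at this
  rw [show d + 2 - 1 = d + 1 by omega]
  omega

end Cfsg.Agent.Lib.GLClasses
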